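import Cfsg.Prelude.Def_LocalEven
import Cfsg.Prelude.Def_Solvable
import Cfsg.Prelude.Def_Transfer
import Cfsg.Agent.Lib.ConjFunctor.Basic
import Cfsg.Agent.Lib.LocalEven.Involves
import Mathlib.LinearAlgebra.Matrix.SpecialLinearGroup
import Mathlib.FieldTheory.Finite.Basic

/-!
# No failure of factorization: definitions and elementary facts
-/

set_option autoImplicit false

namespace CfsgLib.NoFF

open Subgroup CfsgLib.ConjFunctor
open scoped MatrixGroups

variable {p : ℕ} {H : Type*} [Group H] {V : Type*} [CommGroup V]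

/-- No section isomorphic to `SL₂(F)`, `F` a finite field of characteristic `p`. -/
def NoSL2 (p : ℕ) (H : Type*) [Group H] : Prop :=
  ∀ (F : Type) [Field F] [Fintype F], (∃ n : ℕ, Fintype.card F = p ^ n) → ¬ Cfsg.Involves SL(2, F) H

/-- The points fixed by the subgroup `A` in the action `φ`. -/
def fixp (φ : H →* MulAut V) (A : Subgroup H) : Subgroup V where
  carrier := {v | ∀ a ∈ A, φ a v = v}
  one_mem' a _ := map_one _
  mul_mem' {v w} hv hw a ha := by rw [map_mul, hv a ha, hw a ha]
  inv_mem' {v} hv a ha := by rw [map_inv, hv a ha]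

theorem mem_fixp {φ : H →* MulAut V} {A : Subgroup H} {v : V} :
    v ∈ fixp φ A ↔ ∀ a ∈ A, φ a v = v := Iff.rfl

theorem fixp_mono {φ : H →* MulAut V} {A B : Subgroup H} (h : A ≤ B) : fixp φ B ≤ fixp φ A :=
  fun _ hv a ha => hv a (h ha)

theorem card_sup_mul_card_inf {L : Type*} [CommGroup L] (A B : Subgroup L) :
    Nat.card (A ⊔ B : Subgroup L) * Nat.card (A ⊓ B : Subgroup L) = Nat.card A * Nat.card B := by
  have h1 := relIndex_mul_relIndex (⊥ : Subgroup L) B (A ⊔ B) bot_le le_sup_right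
  have h2 := relIndex_mul_relIndex (⊥ : Subgroup L) (B ⊓ A) A bot_le inf_le_right
  rw [relIndex_bot_left, relIndex_bot_left, relIndex_sup_right] at h1
  rw [relIndex_bot_left, relIndex_bot_left, inf_relIndex_right, inf_comm] at h2
  rw [← h1, ← h2]
  ring

theorem card_eq_ker_mul_map [Finite H] {K : Type*} [Group K] (f : H →* K) (A : Subgroup H) :
    Nat.card A = Nat.card (A ⊓ f.ker : Subgroup H) * Nat.card (A.map f) := by
  have h1 := relIndex_mul_relIndex (⊥ : Subgroup H) (f.ker ⊓ A) A bot_le inf_le_right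
  rw [relIndex_bot_left, relIndex_bot_left, inf_relIndex_right, relIndex_ker, inf_comm] at h1
  exact h1.symm

theorem fixp_bot (φ : H →* MulAut V) : fixp φ ⊥ = ⊤ := by
  refine eq_top_iff.2 fun v _ a ha => ?_
  obtain rfl := mem_bot.1 ha
  simp

/-- The subgroup fixing the set `U` pointwise. -/
def pstab (φ : H →* MulAut V) (U : Subgroup V) : Subgroup H where
  carrier := {h | ∀ u ∈ U, φ h u = u}
  one_mem' u _ := by simp
  mul_mem' {a b} ha hb u hu := by rw [map_mul, MulAut.mul_apply, hb u hu, ha u hu]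
  inv_mem' {a} ha u hu := by
    conv_lhs => rw [← ha u hu]
    rw [map_inv, MulAut.inv_apply_self]

theorem le_pstab_fixp (φ : H →* MulAut V) (A : Subgroup H) : A ≤ pstab φ (fixp φ A) :=
  fun _ ha _ hu => hu _ ha

/-- `|A| |C_V(A)|`. -/
noncomputable def ff (φ : H →* MulAut V) (A : Subgroup H) : ℕ :=
  Nat.card A * Nat.card (fixp φ A)

/-- `U` is invariant. -/
def Inv (φ : H →* MulAut V) (U : Subgroup V) : Prop := ∀ h : H, ∀ u ∈ U, φ h u ∈ U

theorem inv_fixp (φ : H →* MulAut V) (A : Subgroup H) [A.Normal] : Inv φ (fixp φ A) := by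
  intro h u hu a ha
  have h1 := hu (h⁻¹ * a * h) (by simpa using (inferInstance : A.Normal).conj_mem a ha h⁻¹)
  have h2 : φ a (φ h u) = φ h (φ (h⁻¹ * a * h) u) := by
    simp [map_mul, MulAut.mul_apply, MulAut.apply_inv_self]
  rw [h2, h1]

/-- The action on an invariant subgroup. -/
def res (φ : H →* MulAut V) (U : Subgroup V) (hU : Inv φ U) : H →* MulAut U where
  toFun h :=
    { toFun := fun u => ⟨φ h u, hU h u u.2⟩
      invFun := fun u => ⟨φ h⁻¹ u, hU h⁻¹ u u.2⟩
      left_inv := fun u => Subtype.ext (by simp)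
      right_inv := fun u => Subtype.ext (by simp)
      map_mul' := fun u w => Subtype.ext (map_mul (φ h) (u : V) (w : V)) }
  map_one' := by ext u; simp
  map_mul' a b := by ext u; simp [MulAut.mul_apply]

theorem res_apply (φ : H →* MulAut V) (U : Subgroup V) (hU : Inv φ U) (h : H) (u : U) :
    (res φ U hU h u : V) = φ h u := rfl

theorem mem_ker_res {φ : H →* MulAut V} {U : Subgroup V} {hU : Inv φ U} {h : H} :
    h ∈ (res φ U hU).ker ↔ ∀ u ∈ U, φ h u = u := by
  constructor
  · intro hh u hu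
    rw [MonoidHom.mem_ker] at hh
    exact congrArg (fun e : MulAut U => (e ⟨u, hu⟩ : V)) hh
  · intro hh
    rw [MonoidHom.mem_ker]
    ext u
    exact hh u u.2

/-- Points fixed by the image of `A` in the range of `φ`. -/
theorem fixp_rangeRestrict (φ : H →* MulAut V) (A : Subgroup H) :
    fixp φ.range.subtype (A.map φ.rangeRestrict) = fixp φ A := by
  ext v
  constructor
  · intro hv a ha
    exact hv _ (mem_map_of_mem φ.rangeRestrict ha)
  · rintro hv _ ⟨a, ha, rfl⟩
    exact hv a ha

theorem fixp_conj (φ : H →* MulAut V) (A : Subgroup H) (g : H) :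
    fixp φ (cj g A) = (fixp φ A).map (φ g).toMonoidHom := by
  ext v
  constructor
  · intro hv
    refine ⟨φ g⁻¹ v, fun a ha => ?_, by simp⟩
    have h1 := hv _ (conj_mem_cj (g := g) ha)
    simp only [map_mul, map_inv, MulAut.mul_apply] at h1 ⊢
    conv_rhs => rw [← h1]
    simp
  · rintro ⟨u, hu, rfl⟩ a ha
    rw [mem_cj] at ha
    have h1 := hu _ ha
    simp only [MulEquiv.coe_toMonoidHom]
    conv_rhs => rw [← h1]
    simp [map_mul, MulAut.mul_apply, MulAut.apply_inv_self]

theorem card_fixp_conj (φ : H →* MulAut V) (A : Subgroup H) (g : H) :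
    Nat.card (fixp φ (cj g A)) = Nat.card (fixp φ A) := by
  rw [fixp_conj]
  exact card_map_of_injective (φ g).injective

theorem ff_conj (φ : H →* MulAut V) (A : Subgroup H) (g : H) : ff φ (cj g A) = ff φ A := by
  rw [ff, ff, card_fixp_conj, card_cj]

/-- `A` is best: no subgroup of it has a larger value of `ff`. -/
def Best (φ : H →* MulAut V) (A : Subgroup H) : Prop := ∀ B ≤ A, ff φ B ≤ ff φ A

theorem Best.conj {φ : H →* MulAut V} {A : Subgroup H} (h : Best φ A) (g : H) :
    Best φ (cj g A) := by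
  intro B hB
  rw [ff_conj, ← cj_cj_inv g B, ff_conj]
  exact h _ (by simpa [cj_inv_cj] using cj_mono (g := g⁻¹) hB)

/-- A best subgroup is an offender on every invariant subgroup. -/
theorem Best.card_le [Finite H] [Finite V] {φ : H →* MulAut V} {A : Subgroup H} (h : Best φ A)
    (U : Subgroup V) (hU : Inv φ U) :
    Nat.card U ≤ Nat.card (A.map (res φ U hU)) * Nat.card (fixp (res φ U hU) A) := by
  classical
  set f := res φ U hU
  set A₀ := A ⊓ f.ker
  have hA₀ : A₀ ≤ A := inf_le_left
  have h1 : U ⊔ fixp φ A ≤ fixp φ A₀ := by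
    refine sup_le (fun u hu a ha => ?_) (fixp_mono hA₀)
    exact mem_ker_res.1 ha.2 u hu
  have h2 := h A₀ hA₀
  have h3 : Nat.card A = Nat.card A₀ * Nat.card (A.map f) := card_eq_ker_mul_map f A
  have h4 := card_sup_mul_card_inf U (fixp φ A)
  have h5 : Nat.card (U ⊓ fixp φ A : Subgroup V) = Nat.card (fixp f A) := by
    refine Nat.card_congr ⟨fun v => ⟨⟨v.1, v.2.1⟩, fun a ha => Subtype.ext (v.2.2 a ha)⟩,
      fun u => ⟨u.1.1, u.1.2, fun a ha => congrArg Subtype.val (u.2 a ha)⟩, fun _ => rfl,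
      fun _ => rfl⟩
  have h6 : Nat.card (U ⊔ fixp φ A : Subgroup V) ≤ Nat.card (fixp φ A₀) :=
    Nat.card_le_card_of_injective _ (Subgroup.inclusion_injective h1)
  rw [ff, ff, h3] at h2
  have h7 : Nat.card A₀ * (Nat.card U * Nat.card (fixp φ A)) ≤
      Nat.card A₀ * (Nat.card (A.map f) * Nat.card (fixp f A) * Nat.card (fixp φ A)) := by
    rw [← h4, h5]
    calc Nat.card A₀ * (Nat.card (U ⊔ fixp φ A : Subgroup V) * Nat.card (fixp f A))
        ≤ Nat.card A₀ * Nat.card (fixp φ A₀) * Nat.card (fixp f A) := by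
          rw [← mul_assoc]
          exact Nat.mul_le_mul_right _ (Nat.mul_le_mul_left _ h6)
      _ ≤ Nat.card A₀ * Nat.card (A.map f) * Nat.card (fixp φ A) * Nat.card (fixp f A) :=
          Nat.mul_le_mul_right _ h2
      _ = _ := by ring
  exact Nat.le_of_mul_le_mul_right (Nat.le_of_mul_le_mul_left h7 Nat.card_pos) Nat.card_pos

end CfsgLib.NoFF
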