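import Cfsg.Agent.Lib.NoFF.Main
import Cfsg.Agent.S2759
import Mathlib.GroupTheory.Subgroup.Centralizer

/-!
# No failure of factorization: the conjugation version and the prime two
-/

set_option autoImplicit false

namespace CfsgLib.NoFF

open Subgroup CfsgLib.ConjFunctor
open scoped MatrixGroups IsMulCommutative

/-- Without a section `S₃` there is no section `SL₂(F)` in characteristic two. -/
theorem noSL2_two_of_not_S3 {H : Type*} [Group H]
    (h : ¬ Cfsg.Involves (Equiv.Perm (Fin 3)) H) : NoSL2 2 H := by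
  intro F _ _ hF hinv
  obtain ⟨n, hn⟩ := hF
  haveI : CharP F 2 := by
    refine (CharP.charP_iff_prime_eq_zero Nat.prime_two).2 ?_
    have h1 : ((2 : ℕ) : F) ^ n = 0 := by
      rw [← Nat.cast_pow, ← hn, Nat.cast_card_eq_zero]
    exact (pow_eq_zero_iff (fun h0 => by subst h0; simp at h1)).1 h1
  let f : SL(2, ZMod 2) →* SL(2, F) :=
    Matrix.SpecialLinearGroup.map (ZMod.castHom (dvd_refl 2) F)
  have hf : Function.Injective f := fun a b hab => Subtype.ext <| by
    ext i j
    exact (ZMod.castHom (dvd_refl 2) F).injective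
      (congrFun (congrFun (congrArg Subtype.val hab) i) j)
  obtain ⟨K, g, hg⟩ := LocalEven.exists_surjective_of_involves hinv
  haveI : Fact (Nat.Prime 3) := ⟨by norm_num⟩
  have h3 : Cfsg.Involves (DihedralGroup 3) SL(2, ZMod 2) := by
    let x : SL(2, ZMod 2) := ⟨!![1, 1; 0, 1], by simp [Matrix.det_fin_two]⟩
    let y : SL(2, ZMod 2) := ⟨!![0, 1; 1, 1], by simp [Matrix.det_fin_two]⟩
    have hne : ∀ z : SL(2, ZMod 2), z.1 ≠ 1 → z ≠ 1 := fun z hz h => hz (congrArg Subtype.val h)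
    have hx2 : x * x = 1 := Subtype.ext (by
      show (!![1, 1; 0, 1] : Matrix (Fin 2) (Fin 2) (ZMod 2)) * !![1, 1; 0, 1] = 1
      decide)
    have hy3 : y * y * y = 1 := Subtype.ext (by
      show (!![0, 1; 1, 1] : Matrix (Fin 2) (Fin 2) (ZMod 2)) * !![0, 1; 1, 1] * !![0, 1; 1, 1] = 1
      decide)
    have hxy : x * y * x * y = 1 := Subtype.ext (by
      show (!![1, 1; 0, 1] : Matrix (Fin 2) (Fin 2) (ZMod 2)) * !![0, 1; 1, 1] * !![1, 1; 0, 1] *
        !![0, 1; 1, 1] = 1
      decide)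
    have hy1 : y ≠ 1 := hne y (by decide)
    refine LocalEven.involves_dihedral (by norm_num) (x := x) (y := y)
      ⟨1, ?_⟩ ⟨1, ?_⟩ hy1 ?_
    · rw [pow_one]
      exact orderOf_eq_prime (by rw [pow_two]; exact hx2) (hne x (by decide))
    · rw [pow_one]
      exact orderOf_eq_prime (by rw [pow_succ, pow_two]; exact hy3) hy1
    · rw [inv_eq_of_mul_eq_one_right hx2]
      exact eq_inv_iff_mul_eq_one.2 hxy
  obtain ⟨L, q, hq⟩ := LocalEven.exists_surjective_of_involves h3
  let L' : Subgroup SL(2, F) := L.map f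
  let q' : L' →* Equiv.Perm (Fin 3) :=
    (LocalEven.dihedralThreeEquiv.toMonoidHom.comp q).comp
      (Subgroup.equivMapOfInjective L f hf).symm.toMonoidHom
  refine h (LocalEven.involves_of_surjective ((L'.comap g).map K.subtype)
    ((q'.comp (g.subgroupComap L')).comp (Subgroup.equivMapOfInjective (L'.comap g) K.subtype
      K.subtype_injective).symm.toMonoidHom) ?_)
  have h1 : Function.Surjective (g.subgroupComap L') := fun y => by
    obtain ⟨x, hx⟩ := hg y.1
    exact ⟨⟨x, show g x ∈ L' from hx ▸ y.2⟩, Subtype.ext hx⟩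
  exact (((LocalEven.dihedralThreeEquiv.surjective.comp hq).comp (MulEquiv.surjective _)).comp
    h1).comp (MulEquiv.surjective _)

variable {G : Type*} [Group G] [Finite G]

/-- In a group without a section `S₄`, an elementary abelian subgroup of a `2`-minimal group `L`
offending on a normalised elementary abelian `2`-subgroup `V` on which `L` acts reducedly
centralizes `V`. -/
theorem le_centralizer_of_offender (hS4 : ¬ Cfsg.Involves (Equiv.Perm (Fin 4)) G)
    (V L : Subgroup G) (hV : Cfsg.IsElementaryAbelian 2 V)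
    (hLV : L ≤ normalizer (V : Set G)) (hmin : Cfsg.IsPMinimal 2 L)
    (hred : ∀ N : Subgroup G, N ≤ L → L ≤ normalizer (N : Set G) →
      L ⊓ centralizer (V : Set G) ≤ N → (∀ n ∈ N, ∃ k : ℕ, n ^ 2 ^ k ∈ centralizer (V : Set G)) →
      N ≤ centralizer (V : Set G))
    (A : Subgroup G) (hAL : A ≤ L) (hA : Cfsg.IsElementaryAbelian 2 A)
    (hoff : Nat.card V * Nat.card (A ⊓ centralizer (V : Set G) : Subgroup G) ≤
      Nat.card A * Nat.card (V ⊓ centralizer (A : Set G) : Subgroup G)) :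
    A ≤ centralizer (V : Set G) := by
  classical
  haveI := hV.1
  set ψ : L →* MulAut V := V.normalizerMonoidHom.comp (inclusion hLV) with hψ
  have hker : ∀ x : L, x ∈ ψ.ker ↔ (x : G) ∈ centralizer (V : Set G) := fun x => by
    rw [MonoidHom.mem_ker]
    have h := congrArg (fun S => inclusion hLV x ∈ S) V.normalizerMonoidHom_ker
    simp only [MonoidHom.mem_ker, mem_subgroupOf, coe_inclusion, eq_iff_iff] at h
    exact h
  have hexp : ∀ v : V, v ^ 2 = 1 := fun v => Subtype.ext (hV.2 v v.2)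
  by_contra hne
  obtain ⟨a, ha, hac⟩ := SetLike.not_le_iff_exists.1 hne
  have hcore : Cfsg.pCore 2 ψ.range = ⊥ := by
    set O := Cfsg.pCore 2 ψ.range
    haveI : O.Normal := LocalEven.core_normal 2 _
    set D := O.comap ψ.rangeRestrict
    have h1 : D.map L.subtype ≤ centralizer (V : Set G) := by
      refine hred _ (map_subtype_le D) ?_ ?_ ?_
      · intro x hx
        rw [← cj_eq_self_iff]
        refine Subgroup.eq_of_le_of_card_ge ?_ (card_cj _ _).ge
        rintro _ ⟨_, ⟨d, hd, rfl⟩, rfl⟩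
        exact ⟨⟨x, hx⟩ * d * ⟨x, hx⟩⁻¹,
          (inferInstance : D.Normal).conj_mem d hd ⟨x, hx⟩, rfl⟩
      · rintro c ⟨hcL, hc⟩
        refine ⟨⟨c, hcL⟩, ?_, rfl⟩
        show ψ.rangeRestrict ⟨c, hcL⟩ ∈ O
        have : ψ.rangeRestrict ⟨c, hcL⟩ = 1 := Subtype.ext ((hker ⟨c, hcL⟩).2 hc)
        rw [this]; exact one_mem O
      · rintro _ ⟨d, hd, rfl⟩
        obtain ⟨k, hk⟩ := LocalEven.core_isPGroup 2 ψ.range ⟨_, hd⟩
        refine ⟨k, ?_⟩
        have hk' := congrArg (fun z : O => ((z : ψ.range) : MulAut V)) hk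
        simp only [SubmonoidClass.coe_pow, OneMemClass.coe_one] at hk'
        have h2 : (d ^ 2 ^ k : L) ∈ ψ.ker := by
          rw [MonoidHom.mem_ker, map_pow]; exact hk'
        simpa using (hker _).1 h2
    refine eq_bot_iff.2 fun o ho => ?_
    obtain ⟨d, rfl⟩ := ψ.rangeRestrict_surjective o
    rw [mem_bot]
    exact Subtype.ext ((hker d).2 (h1 (mem_map_of_mem _ ho)))
  haveI : Nontrivial ψ.range := ⟨⟨ψ.rangeRestrict ⟨a, hAL ha⟩, 1, fun h =>
    hac ((hker _).1 (MonoidHom.mem_ker.2 (Subtype.ext_iff.1 h)))⟩⟩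
  have hsur := ψ.rangeRestrict_surjective
  have hsec : NoSL2 2 ψ.range := by
    haveI : ((centralizer (V : Set G)).subgroupOf (normalizer (V : Set G))).Normal :=
      V.normalizerMonoidHom_ker ▸ MonoidHom.normal_ker _
    have hS3 : ¬ Cfsg.Involves (Equiv.Perm (Fin 3))
        (↥(normalizer (V : Set G)) ⧸ (centralizer (V : Set G)).subgroupOf (normalizer (V : Set G))) :=
      fun h => hS4 (Cfsg.Agent.S2759.result.2
        ⟨V, fun v => ⟨1, by rw [pow_one]; exact hexp v⟩, h⟩)
    set j := QuotientGroup.lift ((centralizer (V : Set G)).subgroupOf (normalizer (V : Set G)))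
      V.normalizerMonoidHom V.normalizerMonoidHom_ker.ge
    have hjr : ψ.range ≤ j.range := by
      rintro _ ⟨x, rfl⟩
      exact ⟨QuotientGroup.mk (inclusion hLV x), rfl⟩
    refine NoSL2.of_subgroup (noSL2_two_of_not_S3 hS3) (ψ.range.comap j)
      ((j.comp (ψ.range.comap j).subtype).codRestrict ψ.range fun x => x.2) ?_
    intro y
    obtain ⟨x, hx⟩ := hjr y.2
    exact ⟨⟨x, show j x ∈ ψ.range from hx ▸ y.2⟩, Subtype.ext hx⟩
  set A' : Subgroup ψ.range := (A.subgroupOf L).map ψ.rangeRestrict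
  have hne' : A' ≠ ⊥ := fun h => by
    have h1 : ψ.rangeRestrict ⟨a, hAL ha⟩ ∈ (⊥ : Subgroup ψ.range) :=
      h ▸ mem_map_of_mem _ (show (⟨a, hAL ha⟩ : L) ∈ A.subgroupOf L from ha)
    exact hac ((hker _).1 (MonoidHom.mem_ker.2 (Subtype.ext_iff.1 (mem_bot.1 h1))))
  have hlt := card_mul_card_fixp_lt (p := 2) ψ.range.subtype Subtype.coe_injective hexp
    (isPMinimal_of_surjective ψ.rangeRestrict hsur hmin hcore) hcore hsec A'
    (isEA_map _ (isEA_subgroupOf hA)) hne'
  rw [fixp_rangeRestrict] at hlt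
  have h1 : Nat.card (A.subgroupOf L) =
      Nat.card (A.subgroupOf L ⊓ ψ.rangeRestrict.ker : Subgroup L) * Nat.card A' :=
    card_eq_ker_mul_map _ _
  rw [ψ.ker_rangeRestrict, Nat.card_congr (subgroupOfEquivOfLe hAL).toEquiv] at h1
  have h2 : A.subgroupOf L ⊓ ψ.ker = (A ⊓ centralizer (V : Set G)).subgroupOf L := by
    ext x; simp [mem_subgroupOf, hker]
  rw [h2, Nat.card_congr (subgroupOfEquivOfLe (inf_le_left.trans hAL)).toEquiv] at h1
  have h3 : Nat.card (fixp ψ (A.subgroupOf L)) =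
      Nat.card (V ⊓ centralizer (A : Set G) : Subgroup G) := by
    refine Nat.card_congr ⟨fun v => ⟨v.1.1, v.1.2, fun b hb => ?_⟩,
      fun v => ⟨⟨v.1, v.2.1⟩, fun b hb => ?_⟩, fun _ => rfl, fun _ => rfl⟩
    · have := congrArg Subtype.val (v.2 ⟨b, hAL hb⟩ hb)
      change b * (v.1 : G) * b⁻¹ = _ at this
      exact mul_inv_eq_iff_eq_mul.1 this
    · refine Subtype.ext ?_
      show (b : G) * v.1 * (b : G)⁻¹ = v.1
      rw [v.2.2 b hb, mul_inv_cancel_right]
  rw [h3] at hlt
  rw [h1, mul_assoc, mul_comm (Nat.card V)] at hoff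
  exact absurd (Nat.le_of_mul_le_mul_left hoff Nat.card_pos) (not_le.2 hlt)

end CfsgLib.NoFF
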