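import Cfsg.Agent.Lib.NoFF.Reduce

/-!
# No failure of factorization: every conjugate of an offender lies below one maximal subgroup only
-/

set_option autoImplicit false

namespace CfsgLib.NoFF

open Subgroup CfsgLib.ConjFunctor

universe u

variable {p : ℕ} [hp : Fact p.Prime] {N : ℕ} {V H : Type u} [CommGroup V] [Finite V] [Group H]
  [Finite H] {φ : H →* MulAut V} {A : Subgroup H}

omit hp in
/-- `Mx` picks for each Sylow subgroup the maximal subgroup containing it. -/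
def IsMaxFun (p : ℕ) (Mx : Subgroup H → Subgroup H) : Prop :=
  ∀ T, IsSyl p T ⊤ → IsCoatom (Mx T) ∧ T ≤ Mx T ∧ ∀ U : Subgroup H, U ≠ ⊤ → T ≤ U → U ≤ Mx T

theorem exists_maxFun (hH : Cfsg.IsPMinimal p H) : ∃ Mx, IsMaxFun p (H := H) Mx := by
  classical
  refine ⟨fun T => if h : IsSyl p T ⊤ then (exists_max hH h).choose else ⊤, fun T hT => ?_⟩
  simp only [dif_pos hT]
  exact (exists_max hH hT).choose_spec

variable {Mx : Subgroup H → Subgroup H}

omit [Finite H] hp in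
theorem cj_ne_top {X : Subgroup H} (g : H) (h : X ≠ ⊤) : cj g X ≠ ⊤ := fun h1 =>
  h (cj_inj (h1.trans (cj_eq_self_of_normal g ⊤).symm))

omit [Finite H] hp in
theorem isSyl_cj {T : Subgroup H} (hT : IsSyl p T ⊤) (g : H) : IsSyl p (cj g T) ⊤ := by
  simpa [cj_eq_self_of_normal g (⊤ : Subgroup H)] using hT.conj g

omit [Finite H] hp in
theorem mx_eq (hMx : IsMaxFun p Mx) {T T' : Subgroup H} (hT : IsSyl p T ⊤) (hT' : IsSyl p T' ⊤)
    (h : T ≤ Mx T') : Mx T = Mx T' := by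
  obtain ⟨h1, -, h3⟩ := hMx T hT
  obtain ⟨h1', -, -⟩ := hMx T' hT'
  exact ((h1'.le_iff.1 (h3 _ h1'.1 h)).resolve_left h1.1)

omit [Finite H] hp in
theorem mx_cj (hMx : IsMaxFun p Mx) {T : Subgroup H} (hT : IsSyl p T ⊤) (g : H) :
    Mx (cj g T) = cj g (Mx T) := by
  obtain ⟨h1, h2, h3⟩ := hMx T hT
  obtain ⟨h1', h2', h3'⟩ := hMx _ (isSyl_cj hT g)
  refine le_antisymm ?_ (h3' _ (cj_ne_top g h1.1) (cj_mono h2))
  have := h3 _ (cj_ne_top g⁻¹ h1'.1) (by simpa [cj_inv_cj] using cj_mono (g := g⁻¹) h2')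
  simpa [cj_cj_inv] using cj_mono (g := g) this

theorem mem_of_cj_mx (hH : Cfsg.IsPMinimal p H) (hMx : IsMaxFun p Mx) {T : Subgroup H}
    (hT : IsSyl p T ⊤) {g : H} (h : cj g (Mx T) = Mx T) : g ∈ Mx T := by
  obtain ⟨h1, h2, -⟩ := hMx T hT
  obtain h4 | h4 := h1.le_iff.1 (le_normalizer : Mx T ≤ normalizer (Mx T : Set H))
  · haveI : (Mx T).Normal := normalizer_eq_top_iff.1 h4
    exact absurd (eq_top_of_normal_ge hH hT h2) h1.1
  · exact h4.le (cj_eq_self_iff.1 h)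

/-- `E` is a conjugate of `A`. -/
def IsCj (A E : Subgroup H) : Prop := ∃ g : H, cj g A = E

omit [Finite H] hp in
theorem IsCj.cj {E : Subgroup H} (h : IsCj A E) (g : H) : IsCj A (cj g E) := by
  obtain ⟨k, rfl⟩ := h
  exact ⟨g * k, cj_mul g k A⟩

theorem Counter.cj_props (c : Counter p N V H φ A) {E : Subgroup H} (h : IsCj A E) :
    Cfsg.IsElementaryAbelian p E ∧ Best φ E ∧ E ≠ ⊥ := by
  obtain ⟨g, rfl⟩ := h
  exact ⟨isEA_map _ c.ea, c.best.conj g, fun h => c.ne (cj_eq_bot_iff.1 h)⟩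

theorem isPMinimal_of_max {P : Type*} [Group P] [Finite P] {T M : Subgroup P}
    (hT : IsSyl p T ⊤) (hn : normalizer (T : Set P) ≠ ⊤) (hM : M ≠ ⊤) (hTM : T ≤ M)
    (hmax : ∀ U : Subgroup P, U ≠ ⊤ → T ≤ U → U ≤ M) : Cfsg.IsPMinimal p P := by
  intro S
  obtain ⟨g, -, hg⟩ := hT.exists_cj_eq (isSyl_top S)
  refine ⟨fun hS => hn ?_, cj g M, ⟨⟨cj_ne_top g hM, fun U hU => ?_⟩, hg ▸ cj_mono hTM⟩, ?_⟩
  · have h1 : T = (S : Subgroup P) := by
      rw [← cj_inv_cj g T, hg, cj_eq_self_of_normal]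
    rw [h1, normalizer_eq_top_iff]; exact hS
  · by_contra hne
    have h1 : U ≤ cj g M := by
      have := hmax _ (cj_ne_top g⁻¹ hne) (by
        have h2 := cj_mono (g := g⁻¹) ((cj_mono hTM).trans hU.le)
        rwa [cj_inv_cj] at h2)
      simpa [cj_cj_inv] using cj_mono (g := g) this
    exact hU.not_ge h1
  · rintro U ⟨hU, hSU⟩
    have h1 : U ≤ cj g M := by
      have := hmax _ (cj_ne_top g⁻¹ hU.1) (by
        have h2 := cj_mono (g := g⁻¹) ((hg.le : cj g T ≤ (S : Subgroup P)).trans hSU)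
        rwa [cj_inv_cj] at h2)
      simpa [cj_cj_inv] using cj_mono (g := g) this
    exact ((hU.le_iff.1 h1).resolve_left (cj_ne_top g hM)).symm

/-- A proper subgroup with a Sylow subgroup containing a set of offenders that lie below `Mx T₂`
only is contained in `Mx T₂`. -/
theorem Counter.le_max (c : Counter p N V H φ A) (hMx : IsMaxFun p Mx) {N₀ R T₂ : Subgroup H}
    (h0 : N₀ ≠ ⊤) (hR : IsSyl p R N₀) (hT₂ : IsSyl p T₂ ⊤) (hRT : R ≤ T₂)
    (K : Set (Subgroup H)) (hK1 : ∀ E ∈ K, IsCj A E ∧ E ≤ R)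
    (hK2 : ∀ g : H, (∀ E ∈ K, E ≤ cj g T₂) → g ∈ Mx T₂) : N₀ ≤ Mx T₂ := by
  classical
  by_contra hN
  obtain ⟨P, ⟨hRP, hPN, hPM⟩, hPmin⟩ := (Set.toFinite
    {P : Subgroup H | R ≤ P ∧ P ≤ N₀ ∧ ¬ P ≤ Mx T₂}).exists_minimal ⟨N₀, hR.le, le_rfl, hN⟩
  have hRP' : IsSyl p R P := ⟨hRP, hR.isPGroup, fun h => hR.not_dvd
    (h.trans ⟨_, (relIndex_mul_relIndex R P N₀ hRP hPN).symm⟩)⟩
  have hRS : IsSyl p (R.subgroupOf P) ⊤ := ⟨le_top, hR.isPGroup.comap_of_injective P.subtype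
    Subtype.coe_injective, by rw [relIndex_top_right]; exact hRP'.not_dvd⟩
  obtain ⟨-, hTM, -⟩ := hMx T₂ hT₂
  have hPmin' : Cfsg.IsPMinimal p P := by
    refine isPMinimal_of_max (M := (Mx T₂).subgroupOf P) hRS (fun h => hPM fun g hg => ?_)
      (fun h => hPM (subgroupOf_eq_top.1 h)) (fun x hx => hTM (hRT hx)) fun U hU hRU => ?_
    · refine hK2 g fun E hE e he => mem_cj.2 (hRT ?_)
      have h1 : (⟨g, hg⟩ : P) ∈ normalizer ((R.subgroupOf P : Subgroup P) : Set P) := h ▸ mem_top _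
      have h2 := (mem_normalizer_iff.1 (inv_mem h1) ⟨e, hRP ((hK1 E hE).2 he)⟩).1
        ((hK1 E hE).2 he)
      simpa [mem_subgroupOf] using h2
    · have h1 : U.map P.subtype ≤ Mx T₂ := by
        by_contra h2
        refine hU (eq_top_iff.2 fun x _ => ?_)
        have h3 := hPmin ⟨fun r hr => mem_map.2 ⟨⟨r, hRP hr⟩, hRU (mem_subgroupOf.2 hr), rfl⟩,
          (map_subtype_le U).trans hPN, h2⟩ (map_subtype_le U) x.2
        obtain ⟨y, hy, he⟩ := h3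
        exact Subtype.ext he ▸ hy
      exact fun x hx => h1 ⟨x, hx, rfl⟩
  have hcard : Nat.card P + Nat.card V < N := by
    have h1 : Nat.card P < Nat.card H := by
      refine lt_of_le_of_lt (Nat.card_le_card_of_injective _ (inclusion_injective hPN)) ?_
      exact lt_of_le_of_ne (Subgroup.card_le_card_group N₀) fun h => h0 (eq_top_of_card_eq N₀ h)
    have := c.size; omega
  obtain ⟨C, hCP, hCn, hCfix, hCB⟩ := exists_fixing c.ih φ c.exp P hPmin'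
    (NoSL2.of_subgroup c.sec P (MonoidHom.id P) (fun x => ⟨x, rfl⟩)) hcard R hRP'
  have hCM : C ≤ Mx T₂ := by
    refine hCfix.trans (le_trans ?_ ((hMx T₂ hT₂).2.2 _ (c.pstab_ne_top hT₂.isPGroup)
      (le_pstab_fixp φ T₂)))
    intro g hg w hw
    exact hg w (fixp_mono hRT hw)
  haveI := hCn
  obtain ⟨S, hS⟩ := exists_sylow_eq hRS
  refine hPM fun g hg => ?_
  obtain ⟨d, hd, hdg⟩ := frattini_inf S (C.subgroupOf P) ⟨g, hg⟩
  have h1 : (d : H) * g ∈ Mx T₂ := by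
    refine hK2 _ fun E hE e he => mem_cj.2 (hRT ?_)
    obtain ⟨hEA, hEb, -⟩ := c.cj_props (hK1 E hE).1
    have heC : e ∈ C := hCB E (hK1 E hE).2 hEA hEb he
    have heS : (⟨e, hCP heC⟩ : P) ∈ (S : Subgroup P) ⊓ C.subgroupOf P :=
      ⟨hS ▸ (hK1 E hE).2 he, heC⟩
    have h2 := (mem_normalizer_iff.1 (inv_mem hdg) _).1 heS
    have h3 := hS ▸ h2.1
    simpa [mem_subgroupOf] using h3
  have := mul_mem (inv_mem (hCM hd)) h1
  simpa using this

/-- In a group `T`, either all conjugates of `A` lie in `J`, or one normalizing `J` does not. -/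
theorem exists_outside {T J : Subgroup H} (hT : IsPGroup p T) (hJT : J ≤ T)
    (JS : Set (Subgroup H)) (hJS : ∀ E ∈ JS, IsCj A E) (hJ : J = sSup JS) :
    (∀ D, IsCj A D → D ≤ T → D ≤ J) ∨
      ∃ D, IsCj A D ∧ D ≤ T ⊓ normalizer (J : Set H) ∧ ¬ D ≤ J := by
  by_contra hcon
  push_neg at hcon
  obtain ⟨⟨D, hD, hDT, hDJ⟩, hall⟩ := hcon
  set W := T ⊓ normalizer (J : Set H)
  by_cases hW : W = T
  · exact hDJ (hall D hD (hW.symm ▸ hDT))
  · obtain ⟨t, ht, htW⟩ := SetLike.exists_of_lt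
      (lt_inf_normalizer hT (lt_of_le_of_ne inf_le_left hW))
    refine htW ⟨ht.1, cj_eq_self_iff.1 (Subgroup.eq_of_le_of_card_ge ?_ (card_cj t J).ge)⟩
    rw [cj_le_iff, hJ]
    refine sSup_le fun E hE => ?_
    rw [← cj_le_iff, ← hJ]
    have hEW : E ≤ W := le_inf ((hJ.symm ▸ le_sSup hE : E ≤ J).trans hJT)
      ((hJ.symm ▸ le_sSup hE : E ≤ J).trans le_normalizer)
    exact hall _ ((hJS E hE).cj t) ((cj_mono hEW).trans (cj_eq_self_iff.2 ht.2).le)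

/-- The common conjugates of `A` of two subgroups. -/
def common (A T T' : Subgroup H) : Set (Subgroup H) := {E | IsCj A E ∧ E ≤ T ∧ E ≤ T'}

theorem Counter.mx_eq_of_common (c : Counter p N V H φ A) (hMx : IsMaxFun p Mx)
    {T₀ T₀' : Subgroup H} (hT₀ : IsSyl p T₀ ⊤) (hT₀' : IsSyl p T₀' ⊤) {E₀ : Subgroup H}
    (hE₀ : IsCj A E₀) (hE₁ : E₀ ≤ T₀) (hE₂ : E₀ ≤ T₀') : Mx T₀ = Mx T₀' := by
  classical
  by_contra hne
  set bad : Set (Subgroup H × Subgroup H) := {x | IsSyl p x.1 ⊤ ∧ IsSyl p x.2 ⊤ ∧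
    (common A x.1 x.2).Nonempty ∧ Mx x.1 ≠ Mx x.2}
  obtain ⟨⟨T, T'⟩, ⟨hT, hT', hne', hbad⟩, hmaxJ⟩ := Set.exists_max_image bad
    (fun x => Nat.card (sSup (common A x.1 x.2) : Subgroup H)) (Set.toFinite bad)
    ⟨(T₀, T₀'), hT₀, hT₀', ⟨E₀, hE₀, hE₁, hE₂⟩, hne⟩
  simp only at hmaxJ hbad hne'
  set J : Subgroup H := sSup (common A T T') with hJ
  have hJT : J ≤ T := sSup_le fun E hE => hE.2.1
  have hJT' : J ≤ T' := sSup_le fun E hE => hE.2.2
  obtain ⟨E₁, hE₁⟩ := hne'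
  have hJ0 : J ≠ ⊥ := fun h =>
    (c.cj_props hE₁.1).2.2 (le_bot_iff.1 (h ▸ le_sSup hE₁ : E₁ ≤ ⊥))
  have hN0 : normalizer (J : Set H) ≠ ⊤ :=
    normalizer_ne_top c.core (hT.isPGroup.to_le hJT) hJ0
  have hEJ : ∀ E ∈ common A T T', E ≤ J := fun E hE => le_sSup hE
  have star : ∀ T1 T2 D : Subgroup H, IsSyl p T1 ⊤ → IsSyl p T2 ⊤ →
      (∀ E ∈ common A T T', E ≤ T1 ∧ E ≤ T2) → IsCj A D → D ≤ T1 → D ≤ T2 → ¬ D ≤ J →
      Mx T1 = Mx T2 := by
    intro T1 T2 D h1 h2 h3 hD hD1 hD2 hDJ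
    by_contra h4
    have h5 := hmaxJ (T1, T2) ⟨h1, h2, ⟨D, hD, hD1, hD2⟩, h4⟩
    have h6 : J ≤ sSup (common A T1 T2) :=
      sSup_le fun E hE => le_sSup ⟨hE.1, h3 E hE⟩
    exact hDJ ((le_sSup (show D ∈ common A T1 T2 from ⟨hD, hD1, hD2⟩)).trans
      (Subgroup.eq_of_le_of_card_ge h6 h5).ge)
  have main : ∀ U U' : Subgroup H, IsSyl p U ⊤ → IsSyl p U' ⊤ → Mx U ≠ Mx U' → J ≤ U → J ≤ U' →
      ∀ D, IsCj A D → D ≤ U ⊓ normalizer (J : Set H) → ¬ D ≤ J →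
      ((∀ D', IsCj A D' → D' ≤ U' → D' ≤ J) ∨
        ∃ D', IsCj A D' ∧ D' ≤ U' ⊓ normalizer (J : Set H) ∧ ¬ D' ≤ J) → False := by
    intro U U' hU hU' hbad hJU hJU' D hD hDT hDJ hD'
    obtain ⟨R, hR, hRge⟩ := exists_isSyl_ge (p := p) (hU.isPGroup.to_le inf_le_left)
      (inf_le_right : U ⊓ normalizer (J : Set H) ≤ normalizer (J : Set H))
    obtain ⟨T₂, hT₂, hRT⟩ := exists_isSyl_ge (p := p) hR.isPGroup (le_top : R ≤ ⊤)
    have hJR : J ≤ R := (le_inf hJU le_normalizer).trans hRge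
    have hM : Mx U = Mx T₂ := star U T₂ D hU hT₂
      (fun E hE => ⟨(hEJ E hE).trans hJU, (hEJ E hE).trans (hJR.trans hRT)⟩) hD
      (hDT.trans inf_le_left) (hDT.trans (hRge.trans hRT)) hDJ
    obtain ⟨h, hh, hle⟩ := hR.exists_cj_le (hU'.isPGroup.to_le inf_le_left)
      (inf_le_right : U' ⊓ normalizer (J : Set H) ≤ normalizer (J : Set H))
    have hle' : U' ⊓ normalizer (J : Set H) ≤ cj h⁻¹ T₂ :=
      (cj_le_iff.1 hle).trans (cj_mono hRT)
    have h3 := isSyl_cj hT₂ h⁻¹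
    have hM' : Mx U' = Mx (cj h⁻¹ T₂) := by
      rcases hD' with hall | ⟨D', hD', hDT', hDJ'⟩
      · refine mx_eq hMx hU' h3 (le_trans ?_ (hMx _ h3).2.1)
        refine le_trans (le_inf le_rfl fun t ht => ?_) hle'
        refine cj_eq_self_iff.1 (Subgroup.eq_of_le_of_card_ge ?_ (card_cj t J).ge)
        rw [cj_le_iff, hJ]
        refine sSup_le fun E hE => ?_
        rw [← cj_le_iff, ← hJ]
        exact hall _ (hE.1.cj t) ((cj_mono ((hEJ E hE).trans hJU')).trans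
          (cj_eq_self_of_mem ht).le)
      · exact star U' _ D' hU' h3 (fun E hE => ⟨(hEJ E hE).trans hJU',
          ((hEJ E hE).trans (le_inf hJU' le_normalizer)).trans hle'⟩) hD'
          (hDT'.trans inf_le_left) (hDT'.trans hle') hDJ'
    have hNM : normalizer (J : Set H) ≤ Mx T₂ := by
      refine c.le_max hMx hN0 hR hT₂ hRT ({D} ∪ common A T T') ?_ ?_
      · rintro E (rfl | hE)
        · exact ⟨hD, hDT.trans hRge⟩
        · exact ⟨hE.1, (hEJ E hE).trans hJR⟩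
      · intro g hg
        refine mem_of_cj_mx c.pmin hMx hT₂ ?_
        rw [← mx_cj hMx hT₂ g]
        exact (star T₂ _ D hT₂ (isSyl_cj hT₂ g)
          (fun E hE => ⟨(hEJ E hE).trans (hJR.trans hRT), hg E (Or.inr hE)⟩) hD
          (hDT.trans (hRge.trans hRT)) (hg D (Or.inl rfl)) hDJ).symm
    refine hbad ?_
    rw [hM', mx_cj hMx hT₂, cj_eq_self_of_mem (hNM (inv_mem hh)), hM]
  have hstab : ∀ T : Subgroup H, IsPGroup p T → J ≤ T → (∀ D, IsCj A D → D ≤ T → D ≤ J) →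
      T ≤ normalizer (J : Set H) := by
    intro T hT hJT hall t ht
    refine cj_eq_self_iff.1 (Subgroup.eq_of_le_of_card_ge ?_ (card_cj t J).ge)
    rw [cj_le_iff, hJ]
    refine sSup_le fun E hE => ?_
    rw [← cj_le_iff, ← hJ]
    exact hall _ (hE.1.cj t) ((cj_mono ((hEJ E hE).trans hJT)).trans (cj_eq_self_of_mem ht).le)
  have hJS : ∀ E ∈ common A T T', IsCj A E := fun E hE => hE.1
  rcases exists_outside hT.isPGroup hJT _ hJS hJ with hall | ⟨D, hD, hDT, hDJ⟩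
  · rcases exists_outside hT'.isPGroup hJT' _ hJS hJ with hall' | ⟨D, hD, hDT, hDJ⟩
    · have h1 := (hMx T hT).2.2 _ hN0 (hstab T hT.isPGroup hJT hall)
      exact hbad (mx_eq hMx hT' hT ((hstab T' hT'.isPGroup hJT' hall').trans h1)).symm
    · exact main T' T hT' hT (Ne.symm hbad) hJT' hJT D hD hDT hDJ (Or.inl hall)
  · exact main T T' hT hT' hbad hJT hJT' D hD hDT hDJ
      (exists_outside hT'.isPGroup hJT' _ hJS hJ)

/-- An offender and a conjugate by an element outside its maximal subgroup generate the group. -/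
theorem Counter.generate (c : Counter p N V H φ A) (hMx : IsMaxFun p Mx) {T : Subgroup H}
    (hT : IsSyl p T ⊤) (hAT : A ≤ T) {g : H} (hg : g ∉ Mx T) : A ⊔ cj g A = ⊤ := by
  by_contra hne
  obtain ⟨R, hR, hAR⟩ := exists_isSyl_ge (p := p) c.isPGroup (le_sup_left : A ≤ A ⊔ cj g A)
  obtain ⟨T₂, hT₂, hRT⟩ := exists_isSyl_ge (p := p) hR.isPGroup (le_top : R ≤ ⊤)
  have hA : IsCj A A := ⟨1, cj_one A⟩
  have hM : Mx T = Mx T₂ := c.mx_eq_of_common hMx hT hT₂ hA hAT (hAR.trans hRT)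
  have h1 : A ⊔ cj g A ≤ Mx T₂ := by
    refine c.le_max hMx hne hR hT₂ hRT {A} ?_ ?_
    · rintro E rfl
      exact ⟨hA, hAR⟩
    · intro x hx
      refine mem_of_cj_mx c.pmin hMx hT₂ ?_
      rw [← mx_cj hMx hT₂ x]
      exact (c.mx_eq_of_common hMx hT₂ (isSyl_cj hT₂ x) hA (hAR.trans hRT) (hx A rfl)).symm
  rw [← hM] at h1
  obtain ⟨S, hS, hAS⟩ := exists_isSyl_ge (p := p) (isPGroup_cj (g := g) c.isPGroup)
    (le_sup_right.trans h1 : cj g A ≤ Mx T)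
  have hS' : IsSyl p S ⊤ := by
    obtain ⟨h, -, hle⟩ := hS.exists_cj_le hT.isPGroup (hMx T hT).2.1
    obtain ⟨S', hS', hSS'⟩ := exists_isSyl_ge (p := p) hS.isPGroup (le_top : S ≤ ⊤)
    have h2 : S = S' := Subgroup.eq_of_le_of_card_ge hSS' (by
      refine (hT.card_le hS'.isPGroup le_top).trans ?_
      rw [← card_cj h T]
      exact Subgroup.card_le_of_le hle)
    exact h2 ▸ hS'
  have h2 : Mx S = cj g (Mx T) := by
    rw [← mx_cj hMx hT g]
    exact c.mx_eq_of_common hMx hS' (isSyl_cj hT g) (hA.cj g) hAS (cj_mono hAT)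
  refine hg (mem_of_cj_mx c.pmin hMx hT ?_)
  rw [← h2]
  exact mx_eq hMx hS' hT hS.le

end CfsgLib.NoFF
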