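import Cfsg.Agent.Lib.NoFF.Basic
import Cfsg.Agent.Lib.LocalEven.Cores
import Mathlib.Order.Atoms.Finite
import Mathlib.GroupTheory.PGroup

/-!
# No failure of factorization: facts on `p`-minimal groups
-/

set_option autoImplicit false

namespace CfsgLib.NoFF

open Subgroup CfsgLib.ConjFunctor
open scoped MatrixGroups

variable {p : ℕ} {H : Type*} [Group H]

theorem NoSL2.of_subgroup (h : NoSL2 p H) (K : Subgroup H) {Q : Type*} [Group Q] (f : K →* Q)
    (hf : Function.Surjective f) : NoSL2 p Q := by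
  intro F _ _ hF hinv
  obtain ⟨L, g, hg⟩ := LocalEven.exists_surjective_of_involves hinv
  refine h F hF (LocalEven.involves_of_surjective ((L.comap f).map K.subtype)
    ((g.comp (f.subgroupComap L)).comp (Subgroup.equivMapOfInjective (L.comap f) K.subtype
      K.subtype_injective).symm.toMonoidHom) ?_)
  have h1 : Function.Surjective (f.subgroupComap L) := fun y => by
    obtain ⟨x, hx⟩ := hf y.1
    exact ⟨⟨x, show f x ∈ L from hx ▸ y.2⟩, Subtype.ext hx⟩
  exact (hg.comp h1).comp (MulEquiv.surjective _)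

variable [Finite H] [hp : Fact p.Prime]

omit hp in
theorem core_eq_bot_of_le {N : Subgroup H} (hc : Cfsg.pCore p H = ⊥) [hN : N.Normal]
    (h : IsPGroup p N) : N = ⊥ :=
  eq_bot_iff.2 (hc ▸ LocalEven.le_core_of_normal hN h)

omit hp in
theorem normalizer_ne_top {N : Subgroup H} (hc : Cfsg.pCore p H = ⊥) (h : IsPGroup p N)
    (hne : N ≠ ⊥) : normalizer (N : Set H) ≠ ⊤ := fun hn => by
  haveI : N.Normal := normalizer_eq_top_iff.1 hn
  exact hne (core_eq_bot_of_le hc h)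

/-- Any Sylow subgroup, as `IsSyl`, is a Sylow subgroup. -/
theorem exists_sylow_eq {T : Subgroup H} (hT : IsSyl p T ⊤) :
    ∃ S : Sylow p H, (S : Subgroup H) = T := by
  refine ⟨IsPGroup.toSylow hT.isPGroup ?_, IsPGroup.toSylow_coe _ _⟩
  simpa [relIndex_top_right] using hT.not_dvd

theorem exists_max (hH : Cfsg.IsPMinimal p H) {T : Subgroup H} (hT : IsSyl p T ⊤) :
    ∃ M : Subgroup H, IsCoatom M ∧ T ≤ M ∧ ∀ U : Subgroup H, U ≠ ⊤ → T ≤ U → U ≤ M := by
  obtain ⟨S, rfl⟩ := exists_sylow_eq hT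
  obtain ⟨-, M, ⟨hM, hSM⟩, huniq⟩ := hH S
  refine ⟨M, hM, hSM, fun U hU hSU => ?_⟩
  obtain h1 | ⟨N, hN, hUN⟩ := eq_top_or_exists_le_coatom U
  · exact absurd h1 hU
  · exact huniq N ⟨hN, hSU.trans hUN⟩ ▸ hUN

theorem not_normal (hH : Cfsg.IsPMinimal p H) {T : Subgroup H} (hT : IsSyl p T ⊤) :
    normalizer (T : Set H) ≠ ⊤ := by
  obtain ⟨S, rfl⟩ := exists_sylow_eq hT
  exact fun h => (hH S).1 (normalizer_eq_top_iff.1 h)

theorem not_isPGroup (hH : Cfsg.IsPMinimal p H) : ¬ IsPGroup p H := fun h => by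
  obtain ⟨S⟩ := (inferInstance : Nonempty (Sylow p H))
  exact (hH S).1 ((S.3 (h.to_subgroup ⊤) le_top) ▸ inferInstance)

/-- A `p`-minimal group is the normal closure of a Sylow subgroup. -/
theorem eq_top_of_normal_ge (hH : Cfsg.IsPMinimal p H) {T N : Subgroup H} (hT : IsSyl p T ⊤)
    [hN : N.Normal] (hTN : T ≤ N) : N = ⊤ := by
  by_contra hne
  obtain ⟨M, hM, hTM, hmax⟩ := exists_max hH hT
  refine hM.1 (top_le_iff.1 fun g _ => ?_)
  obtain ⟨S, rfl⟩ := exists_sylow_eq hT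
  have h1 : normalizer ((S : Subgroup H) : Set H) ⊔ N = ⊤ := Sylow.normalizer_sup_eq_top' S hTN
  have h2 : normalizer ((S : Subgroup H) : Set H) ⊔ N ≤ M :=
    sup_le (hmax _ (not_normal hH hT) le_normalizer) (hmax N hne hTN)
  exact h2 (h1 ▸ mem_top g)

theorem isSyl_inf_normal (S : Sylow p H) (C : Subgroup H) [C.Normal] :
    IsSyl p ((S : Subgroup H) ⊓ C) C := by
  obtain ⟨T, hT, hle⟩ := exists_isSyl_ge (p := p) (P := (S : Subgroup H) ⊓ C)
    (S.isPGroup'.to_le inf_le_left) inf_le_right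
  obtain ⟨g, -, hg⟩ := (isSyl_top S).exists_cj_le hT.isPGroup le_top
  have h1 : cj g T ≤ (S : Subgroup H) ⊓ C :=
    le_inf hg ((cj_mono hT.le).trans (cj_eq_self_of_normal g C).le)
  have h2 : (S : Subgroup H) ⊓ C = T :=
    Subgroup.eq_of_le_of_card_ge hle (by rw [← card_cj g T]; exact Subgroup.card_le_of_le h1)
  rw [h2]
  exact hT

theorem frattini_inf (S : Sylow p H) (C : Subgroup H) [C.Normal] (g : H) :
    ∃ c ∈ C, c * g ∈ normalizer (((S : Subgroup H) ⊓ C : Subgroup H) : Set H) := by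
  obtain ⟨c, hc, hle⟩ := (isSyl_inf_normal S C).exists_cj_le
    (isPGroup_cj (g := g) (S.isPGroup'.to_le inf_le_left))
    ((cj_mono inf_le_right).trans (cj_eq_self_of_normal g C).le)
  refine ⟨c, hc, cj_eq_self_iff.1 (Subgroup.eq_of_le_of_card_ge ?_ (card_cj _ _).ge)⟩
  rw [cj_mul]; exact hle

/-- For `N` normal, either `N` supplements a Sylow subgroup or meets it in a normal subgroup. -/
theorem inf_eq_bot_of_sup_ne_top (hH : Cfsg.IsPMinimal p H) (hc : Cfsg.pCore p H = ⊥)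
    {T N : Subgroup H} (hT : IsSyl p T ⊤) [hN : N.Normal] (hne : N ⊔ T ≠ ⊤) : T ⊓ N = ⊥ := by
  obtain ⟨M, hM, hTM, hmax⟩ := exists_max hH hT
  obtain ⟨S, rfl⟩ := exists_sylow_eq hT
  by_contra h
  have h1 : normalizer (((S : Subgroup H) ⊓ N : Subgroup H) : Set H) ≠ ⊤ :=
    normalizer_ne_top hc (hT.isPGroup.to_le inf_le_left) h
  have h2 : (S : Subgroup H) ≤ normalizer (((S : Subgroup H) ⊓ N : Subgroup H) : Set H) := by
    intro s hs
    rw [← cj_eq_self_iff, cj_inf, cj_eq_self_of_mem hs, cj_eq_self_of_normal]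
  have h3 := hmax _ h1 h2
  have h4 : N ≤ M := le_sup_left.trans (hmax _ hne le_sup_right)
  refine hM.1 (top_le_iff.1 fun g _ => ?_)
  obtain ⟨c, hc', hcg⟩ := frattini_inf S N g
  have := mul_mem (inv_mem (h4 hc')) (h3 hcg)
  simpa using this

end CfsgLib.NoFF
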