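import Cfsg.Agent.Lib.NoFF.Step

/-!
# No failure of factorization: reduction to an irreducible module
-/

set_option autoImplicit false

namespace CfsgLib.NoFF

open Subgroup CfsgLib.ConjFunctor

universe u

variable {p : ℕ} [hp : Fact p.Prime]

theorem exists_ne_one_fixed {H V : Type*} [Group H] [Finite H] [CommGroup V] [Finite V]
    (hexp : ∀ v : V, v ^ p = 1) (φ : H →* MulAut V) {A : Subgroup H} (hA : IsPGroup p A)
    {U : Subgroup V} (hU : ∀ a ∈ A, ∀ u ∈ U, φ a u ∈ U) (hne : U ≠ ⊥) :
    U ⊓ fixp φ A ≠ ⊥ := by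
  obtain ⟨u, hu, hu1⟩ := U.bot_or_exists_ne_one.resolve_left hne
  letI : MulAction A U :=
    { smul := fun a u => ⟨φ a u, hU a a.2 u u.2⟩
      one_smul := fun u => Subtype.ext (by show φ ((1 : A) : H) (u : V) = u; simp)
      mul_smul := fun a b u => Subtype.ext (by
        show φ ((a * b : A) : H) (u : V) = φ a (φ b u); simp [MulAut.mul_apply]) }
  have hdvd : p ∣ Nat.card U := by
    have h1 : orderOf (⟨u, hu⟩ : U) = p :=
      orderOf_eq_prime (Subtype.ext (hexp u)) fun h => hu1 (congrArg Subtype.val h)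
    exact h1 ▸ orderOf_dvd_natCard _
  have h1 : (1 : U) ∈ MulAction.fixedPoints A U := fun a =>
    Subtype.ext (by show φ (a : H) ((1 : U) : V) = _; simp)
  obtain ⟨w, hw, hw1⟩ := hA.exists_fixed_point_of_prime_dvd_card_of_fixed_point U hdvd h1
  intro h
  refine hw1 (Subtype.ext ?_)
  have h2 : (w : V) ∈ U ⊓ fixp φ A := ⟨w.2, fun a ha => congrArg Subtype.val (hw ⟨a, ha⟩)⟩
  rw [h, mem_bot] at h2
  exact h2.symm

/-- The action on the quotient by an invariant subgroup. -/
noncomputable def qres {H V : Type*} [Group H] [CommGroup V] (φ : H →* MulAut V) (W : Subgroup V)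
    (hW : Inv φ W) : H →* MulAut (V ⧸ W) where
  toFun h := MulEquiv.ofBijective
    (QuotientGroup.map W W (φ h).toMonoidHom fun w hw => hW h w hw) (by
      refine Function.bijective_iff_has_inverse.2
        ⟨QuotientGroup.map W W (φ h⁻¹).toMonoidHom fun w hw => hW h⁻¹ w hw, ?_, ?_⟩ <;>
      · intro x
        induction x using QuotientGroup.induction_on with
        | H v => simp)
  map_one' := by
    ext x
    induction x using QuotientGroup.induction_on with
    | H v => simp
  map_mul' a b := by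
    ext x
    induction x using QuotientGroup.induction_on with
    | H v => simp [MulAut.mul_apply]

theorem qres_mk {H V : Type*} [Group H] [CommGroup V] (φ : H →* MulAut V) (W : Subgroup V)
    (hW : Inv φ W) (h : H) (v : V) : qres φ W hW h (v : V ⧸ W) = ((φ h v : V) : V ⧸ W) := rfl

/-- The bundle carried through the proof: a counterexample of least size. -/
structure Counter (p N : ℕ) (V H : Type u) [CommGroup V] [Group H] (φ : H →* MulAut V)
    (A : Subgroup H) : Prop where
  ih : Claim.{u} p N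
  inj : Function.Injective φ
  exp : ∀ v : V, v ^ p = 1
  pmin : Cfsg.IsPMinimal p H
  core : Cfsg.pCore p H = ⊥
  sec : NoSL2 p H
  size : Nat.card H + Nat.card V ≤ N
  ea : Cfsg.IsElementaryAbelian p A
  ne : A ≠ ⊥
  off : Nat.card V ≤ ff φ A
  minimal : ∀ B ≤ A, B ≠ ⊥ → B ≠ A → ff φ B < Nat.card V

variable {N : ℕ} {V H : Type u} [CommGroup V] [Finite V] [Group H] [Finite H] {φ : H →* MulAut V}
  {A : Subgroup H}

theorem Counter.best (c : Counter p N V H φ A) : Best φ A := by
  intro B hB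
  by_cases h1 : B = ⊥
  · subst h1
    have : ff φ (⊥ : Subgroup H) = Nat.card V := by
      rw [ff, fixp_bot, card_bot, one_mul]; exact Nat.card_congr topEquiv.toEquiv
    exact this ▸ c.off
  · by_cases h2 : B = A
    · exact h2 ▸ le_rfl
    · exact (c.minimal B hB h1 h2).le.trans c.off

theorem Counter.isPGroup (c : Counter p N V H φ A) : IsPGroup p A :=
  fun a => ⟨1, by rw [pow_one]; exact Subtype.ext (c.ea.2 a a.2)⟩

theorem Counter.proper_inv (c : Counter p N V H φ A) {U : Subgroup V} (hU : Inv φ U)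
    (hne : U ≠ ⊤) : U = ⊥ := by
  classical
  by_contra hU0
  obtain ⟨W, ⟨hWU, hWi, hW0⟩, hWmin⟩ := (Set.toFinite
    {W : Subgroup V | W ≤ U ∧ Inv φ W ∧ W ≠ ⊥}).exists_minimal ⟨U, le_rfl, hU, hU0⟩
  have hWlt : Nat.card W < Nat.card V := by
    refine lt_of_le_of_ne (Subgroup.card_le_card_group W) fun h => hne ?_
    exact eq_top_iff.2 ((Subgroup.eq_top_of_card_eq W h).ge.trans hWU)
  set f := res φ W hWi
  have hc : Cfsg.pCore p f.range = ⊥ := by
    set O := Cfsg.pCore p f.range with hO
    haveI : O.Normal := LocalEven.core_normal p _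
    set D := O.comap f.rangeRestrict
    have hinv : Inv φ (W ⊓ fixp φ D) := fun h w hw => ⟨hWi h w hw.1, inv_fixp φ D h w hw.2⟩
    have hne0 : W ⊓ fixp φ D ≠ ⊥ := by
      obtain ⟨w0, hw0, hw01⟩ := W.bot_or_exists_ne_one.resolve_left hW0
      have h1 : fixp f.range.subtype O ≠ ⊥ := by
        have h2 : (⊤ : Subgroup W) ≠ ⊥ := fun h => by
          have h3 : (⟨w0, hw0⟩ : W) ∈ (⊥ : Subgroup W) := h ▸ mem_top _
          exact hw01 (Subtype.ext_iff.1 (mem_bot.1 h3))
        simpa using exists_ne_one_fixed (fun v : W => Subtype.ext (c.exp v)) f.range.subtype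
          (LocalEven.core_isPGroup p _) (fun _ _ _ _ => mem_top _) h2
      obtain ⟨w, hw, hw1⟩ := (fixp f.range.subtype O).bot_or_exists_ne_one.resolve_left h1
      intro h
      refine hw1 (Subtype.ext ?_)
      have h2 : (w : V) ∈ W ⊓ fixp φ D :=
        ⟨w.2, fun d hd => congrArg Subtype.val (hw _ hd)⟩
      rw [h, mem_bot] at h2
      exact h2
    have hfull : W ≤ W ⊓ fixp φ D :=
      hWmin ⟨inf_le_left.trans hWU, hinv, hne0⟩ inf_le_left
    refine eq_bot_iff.2 fun o ho => ?_
    obtain ⟨d, rfl⟩ := f.rangeRestrict_surjective o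
    rw [mem_bot, Subtype.ext_iff]
    exact MonoidHom.mem_ker.1 (mem_ker_res.2 fun w hw => (hfull hw).2 d ho)
  have hAK : A ≤ f.ker := le_ker_of_claim c.ih f (fun v => Subtype.ext (c.exp v)) c.pmin c.sec hc
    (by have := c.size; omega) A c.ea (c.best.card_le W hWi)
  obtain ⟨T, hT, hAT⟩ := exists_isSyl_ge (p := p) c.isPGroup (le_top : A ≤ ⊤)
  have hK : f.ker = ⊤ := by
    by_cases h : f.ker ⊔ T = ⊤
    · haveI := f.normal_ker
      have h1 : (⊤ : Subgroup f.range) = T.map f.rangeRestrict := by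
        rw [← map_top_of_surjective _ f.rangeRestrict_surjective, ← h, Subgroup.map_sup]
        have h0 : f.ker.map f.rangeRestrict = ⊥ := by
          rw [Subgroup.map_eq_bot_iff, f.ker_rangeRestrict]
        rw [h0, bot_sup_eq]
      have h2 : IsPGroup p (⊤ : Subgroup f.range) := h1 ▸ hT.isPGroup.map _
      have h3 := core_eq_bot_of_le hc h2
      refine eq_top_iff.2 fun x _ => MonoidHom.mem_ker.2 ?_
      have h4 : f.rangeRestrict x ∈ (⊥ : Subgroup f.range) := h3 ▸ mem_top _
      exact Subtype.ext_iff.1 (mem_bot.1 h4)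
    · exact absurd (eq_bot_iff.2 ((le_inf hAT hAK).trans
        (inf_eq_bot_of_sup_ne_top c.pmin c.core hT h).le)) c.ne
  have hWfix : ∀ h : H, ∀ w ∈ W, φ h w = w := fun h => mem_ker_res.1 (hK ▸ mem_top h)
  set q := qres φ W hWi
  have hq : ∀ {k : H}, k ∈ q.ker → ∀ v : V, v⁻¹ * φ k v ∈ W := fun {k} hk v => by
    have h1 := congrArg (fun e : MulAut (V ⧸ W) => e (v : V ⧸ W)) (MonoidHom.mem_ker.1 hk)
    simp only [MulAut.one_apply] at h1
    rw [← QuotientGroup.eq]
    exact h1.symm
  have hqker : q.ker = ⊥ := by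
    refine core_eq_bot_of_le c.core (fun k => ⟨1, ?_⟩)
    rw [pow_one]
    refine Subtype.ext (c.inj ?_)
    simp only [SubmonoidClass.coe_pow, OneMemClass.coe_one, map_one]
    refine MulEquiv.ext fun v => ?_
    have key : ∀ n : ℕ, φ ((k : H) ^ n) v = v * (v⁻¹ * φ (k : H) v) ^ n := by
      intro n
      induction n with
      | zero => simp
      | succ n ih =>
        rw [pow_succ', map_mul, MulAut.mul_apply, ih, map_mul,
          map_pow, hWfix k _ (hq k.2 v), pow_succ', ← mul_assoc, mul_inv_cancel_left]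
    rw [key p, c.exp, mul_one, MulAut.one_apply]
  have hqinj : Function.Injective q := q.ker_eq_bot_iff.1 hqker
  have hexp' : ∀ v : V ⧸ W, v ^ p = 1 := fun v => by
    induction v using QuotientGroup.induction_on with
    | H v => rw [← QuotientGroup.mk_pow, c.exp, QuotientGroup.mk_one]
  have hcV : Nat.card V = Nat.card (V ⧸ W) * Nat.card W := W.card_eq_card_quotient_mul_card_subgroup
  have hlt : Nat.card (V ⧸ W) < Nat.card V := by
    have h1 : 1 < Nat.card W := by
      haveI : Nontrivial W := (Subgroup.nontrivial_iff_ne_bot W).2 hW0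
      exact Finite.one_lt_card
    rw [hcV]
    exact lt_mul_of_one_lt_right Nat.card_pos h1
  have h1 := c.ih (V ⧸ W) H q hqinj hexp' c.pmin c.core c.sec (by have := c.size; omega) A c.ea
    c.ne
  have h2 : (fixp φ A).map (QuotientGroup.mk' W) ≤ fixp q A := by
    rintro _ ⟨v, hv, rfl⟩ a ha
    show q a (v : V ⧸ W) = (v : V ⧸ W)
    rw [qres_mk, hv a ha]
  have h3 : Nat.card (fixp φ A) ≤ Nat.card W * Nat.card (fixp q A) := by
    rw [card_eq_ker_mul_map (QuotientGroup.mk' W) (fixp φ A), QuotientGroup.ker_mk']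
    exact Nat.mul_le_mul (Nat.card_le_card_of_injective _
      (Subgroup.inclusion_injective inf_le_right)) (Nat.card_le_card_of_injective _
      (Subgroup.inclusion_injective h2))
  have h4 : ff φ A < Nat.card V := by
    calc Nat.card A * Nat.card (fixp φ A) ≤ Nat.card A * (Nat.card W * Nat.card (fixp q A)) :=
          Nat.mul_le_mul_left _ h3
      _ = ff q A * Nat.card W := by rw [ff]; ring
      _ < Nat.card (V ⧸ W) * Nat.card W := Nat.mul_lt_mul_of_pos_right h1 Nat.card_pos
      _ = Nat.card V := hcV.symm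
  exact absurd h4 (not_lt.2 c.off)

theorem Counter.fixp_top (c : Counter p N V H φ A) : fixp φ (⊤ : Subgroup H) = ⊥ := by
  by_contra h
  have h1 : fixp φ (⊤ : Subgroup H) = ⊤ := by
    by_contra h1
    exact h (c.proper_inv (inv_fixp φ ⊤) h1)
  refine c.ne (eq_bot_iff.2 fun a _ => ?_)
  rw [mem_bot]
  refine c.inj (MulEquiv.ext fun v => ?_)
  have h2 : v ∈ fixp φ (⊤ : Subgroup H) := h1 ▸ mem_top v
  rw [h2 a (mem_top a), map_one, MulAut.one_apply]

theorem Counter.fixp_ne_bot (c : Counter p N V H φ A) {T : Subgroup H} (hT : IsPGroup p T) :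
    fixp φ T ≠ ⊥ := by
  have h : (⊤ : Subgroup V) ≠ ⊥ := fun h => c.ne (eq_bot_iff.2 fun a _ => mem_bot.2
    (c.inj (MulEquiv.ext fun v => by
      have : v = 1 := mem_bot.1 (h ▸ mem_top v)
      subst this; simp)))
  simpa using exists_ne_one_fixed c.exp φ hT (fun _ _ _ _ => mem_top _) h

theorem Counter.pstab_ne_top (c : Counter p N V H φ A) {T : Subgroup H} (hT : IsPGroup p T) :
    pstab φ (fixp φ T) ≠ ⊤ := by
  intro h
  refine c.fixp_ne_bot hT (eq_bot_iff.2 ?_)
  rw [← c.fixp_top]
  intro v hv g _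
  exact (h ▸ mem_top g : g ∈ pstab φ (fixp φ T)) v hv

end CfsgLib.NoFF
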