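import Cfsg.Agent.Lib.NoFF.Minimal

/-!
# No failure of factorization: the inductive tools
-/

set_option autoImplicit false

namespace CfsgLib.NoFF

open Subgroup CfsgLib.ConjFunctor
open scoped MatrixGroups

universe u

variable {p : ℕ} [hp : Fact p.Prime]

/-- The statement proved by induction on `N`. -/
def Claim (p N : ℕ) : Prop :=
  ∀ (V H : Type u) [CommGroup V] [Finite V] [Group H] [Finite H] (φ : H →* MulAut V),
    Function.Injective φ → (∀ v : V, v ^ p = 1) → Cfsg.IsPMinimal p H → Cfsg.pCore p H = ⊥ →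
    NoSL2 p H → Nat.card H + Nat.card V < N →
    ∀ A : Subgroup H, Cfsg.IsElementaryAbelian p A → A ≠ ⊥ → ff φ A < Nat.card V

omit hp in
theorem isEA_map {H K : Type*} [Group H] [Group K] (f : H →* K) {A : Subgroup H}
    (hA : Cfsg.IsElementaryAbelian p A) : Cfsg.IsElementaryAbelian p (A.map f) := by
  refine ⟨⟨⟨?_⟩⟩, ?_⟩
  · rintro ⟨_, a, ha, rfl⟩ ⟨_, b, hb, rfl⟩
    refine Subtype.ext ?_
    have h1 := congrArg Subtype.val (hA.1.is_comm.comm ⟨a, ha⟩ ⟨b, hb⟩)
    simp only [Subgroup.coe_mul] at h1 ⊢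
    rw [← map_mul, ← map_mul, h1]
  · rintro _ ⟨a, ha, rfl⟩
    rw [← map_pow, hA.2 a ha, map_one]

omit hp in
theorem isEA_subgroupOf {H : Type*} [Group H] {A P : Subgroup H}
    (hA : Cfsg.IsElementaryAbelian p A) : Cfsg.IsElementaryAbelian p (A.subgroupOf P) := by
  refine ⟨⟨⟨?_⟩⟩, fun a ha => Subtype.ext (hA.2 a ha)⟩
  rintro ⟨a, ha⟩ ⟨b, hb⟩
  refine Subtype.ext (Subtype.ext ?_)
  simpa using congrArg Subtype.val (hA.1.is_comm.comm ⟨a.1, ha⟩ ⟨b.1, hb⟩)

theorem isPMinimal_of_surjective {H Q : Type*} [Group H] [Finite H] [Group Q] (f : H →* Q)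
    (hf : Function.Surjective f) (hH : Cfsg.IsPMinimal p H) (hc : Cfsg.pCore p Q = ⊥)
    [Nontrivial Q] : Cfsg.IsPMinimal p Q := by
  haveI : Finite Q := Finite.of_surjective f hf
  intro S
  obtain ⟨T, rfl⟩ := Sylow.mapSurjective_surjective hf p S
  set S := Sylow.mapSurjective hf T
  have hS : (S : Subgroup Q) = (T : Subgroup H).map f := rfl
  have hn : ¬ (S : Subgroup Q).Normal := fun h => by
    have h1 : (T : Subgroup H) ≤ f.ker := by
      intro t ht
      have h2 : f t ∈ (S : Subgroup Q) := hS ▸ mem_map_of_mem f ht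
      rwa [core_eq_bot_of_le hc S.2, mem_bot, ← MonoidHom.mem_ker] at h2
    have h3 := eq_top_of_normal_ge hH (isSyl_top T) h1
    obtain ⟨q, hq⟩ := exists_ne (1 : Q)
    obtain ⟨x, rfl⟩ := hf q
    exact hq (MonoidHom.mem_ker.1 (h3 ▸ mem_top x))
  refine ⟨hn, ?_⟩
  obtain ⟨M, hM, hTM, hmax⟩ := exists_max hH (isSyl_top T)
  have key : ∀ N : Subgroup Q, IsCoatom N → (S : Subgroup Q) ≤ N → N = M.map f := by
    intro N hN hSN
    have h1 : N.comap f ≤ M := by
      refine hmax _ (fun h => hN.1 ?_) (map_le_iff_le_comap.1 (hS ▸ hSN))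
      rw [← map_comap_eq_self_of_surjective (f := f) hf N, h, map_top_of_surjective _ hf]
    have h2 : N ≤ M.map f := by
      rw [← map_comap_eq_self_of_surjective (f := f) hf N]
      exact map_mono h1
    refine (hN.le_iff.1 h2).resolve_left (fun h => hM.1 ?_) |>.symm
    have h3 : f.ker ≤ M := fun x hx => h1 (show f x ∈ N by rw [MonoidHom.mem_ker.1 hx]; exact one_mem N)
    rw [← comap_map_eq_self h3, h, comap_top]
  obtain h | ⟨N, hN, hSN⟩ := eq_top_or_exists_le_coatom (S : Subgroup Q)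
  · exact absurd (h ▸ inferInstance) hn
  · exact ⟨N, ⟨hN, hSN⟩, fun N' ⟨h', hS'⟩ => (key N' h' hS').trans (key N hN hSN).symm⟩

/-- An offender on `U` acts trivially, by induction. -/
theorem le_ker_of_claim {N : ℕ} (IH : Claim.{u} p N) {P U : Type u} [Group P] [Finite P]
    [CommGroup U] [Finite U] (ψ : P →* MulAut U) (hexp : ∀ v : U, v ^ p = 1)
    (hP : Cfsg.IsPMinimal p P) (hsec : NoSL2 p P) (hc : Cfsg.pCore p ψ.range = ⊥)
    (hN : Nat.card P + Nat.card U < N) (A : Subgroup P) (hA : Cfsg.IsElementaryAbelian p A)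
    (hoff : Nat.card U ≤ Nat.card (A.map ψ) * Nat.card (fixp ψ A)) : A ≤ ψ.ker := by
  by_contra hne
  obtain ⟨a, ha, hak⟩ := SetLike.not_le_iff_exists.1 hne
  haveI : Nontrivial ψ.range := ⟨⟨ψ.rangeRestrict a, 1, fun h => hak
    (MonoidHom.mem_ker.2 (Subtype.ext_iff.1 h))⟩⟩
  have hsur := ψ.rangeRestrict_surjective
  have hA0 : A.map ψ.rangeRestrict ≠ ⊥ := fun h => by
    have h1 : ψ.rangeRestrict a ∈ (⊥ : Subgroup ψ.range) := h ▸ mem_map_of_mem ψ.rangeRestrict ha
    exact hak (MonoidHom.mem_ker.2 (Subtype.ext_iff.1 (mem_bot.1 h1)))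
  have hsec0 : NoSL2 p ψ.range := NoSL2.of_subgroup hsec ⊤
    (ψ.rangeRestrict.comp (Subgroup.topEquiv : (⊤ : Subgroup P) ≃* P).toMonoidHom)
    (hsur.comp (MulEquiv.surjective _))
  have hcard : Nat.card ψ.range + Nat.card U < N :=
    lt_of_le_of_lt (Nat.add_le_add_right (Nat.card_le_card_of_surjective _ hsur) _) hN
  have h1 := IH U ψ.range ψ.range.subtype (Subtype.coe_injective) hexp
    (isPMinimal_of_surjective _ hsur hP hc) hc hsec0 hcard _ (isEA_map _ hA) hA0
  rw [ff, fixp_rangeRestrict] at h1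
  have h2 : Nat.card (A.map ψ) = Nat.card (A.map ψ.rangeRestrict) := by
    have : A.map ψ = (A.map ψ.rangeRestrict).map ψ.range.subtype := by
      rw [map_map]; rfl
    rw [this]
    exact card_map_of_injective Subtype.coe_injective
  rw [h2] at hoff
  exact absurd h1 (not_lt.2 hoff)

omit hp in
theorem fixp_subgroupOf {H V : Type*} [Group H] [CommGroup V] (φ : H →* MulAut V)
    {B P : Subgroup H} (h : B ≤ P) : fixp (φ.comp P.subtype) (B.subgroupOf P) = fixp φ B := by
  ext v
  exact ⟨fun hv a ha => hv ⟨a, h ha⟩ ha, fun hv a ha => hv a.1 ha⟩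

omit hp in
theorem best_subgroupOf {H V : Type*} [Group H] [CommGroup V] (φ : H →* MulAut V)
    {B P : Subgroup H} (h : B ≤ P) (hB : Best φ B) :
    Best (φ.comp P.subtype) (B.subgroupOf P) := by
  intro B' hB'
  have h1 : B'.map P.subtype ≤ B := by
    rintro _ ⟨b, hb, rfl⟩
    exact hB' hb
  have h2 : (B'.map P.subtype).subgroupOf P = B' :=
    comap_map_eq_self_of_injective Subtype.coe_injective B'
  have h3 := hB _ h1
  rw [ff, ← fixp_subgroupOf φ (map_subtype_le B'), h2, ff, ← fixp_subgroupOf φ h,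
    card_map_of_injective Subtype.coe_injective,
    ← Nat.card_congr (subgroupOfEquivOfLe h).toEquiv] at h3
  exact h3

/-- A proper `p`-minimal subgroup `P` with Sylow subgroup `R` has a normal subgroup centralizing
`C_V(R)` and containing every best offender in `R`. -/
theorem exists_fixing {N : ℕ} (IH : Claim.{u} p N) {V H : Type u} [CommGroup V] [Finite V]
    [Group H] [Finite H] (φ : H →* MulAut V) (hexp : ∀ v : V, v ^ p = 1) (P : Subgroup H)
    (hP : Cfsg.IsPMinimal p P) (hsec : NoSL2 p P) (hN : Nat.card P + Nat.card V < N)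
    (R : Subgroup H) (hR : IsSyl p R P) :
    ∃ C : Subgroup H, C ≤ P ∧ (C.subgroupOf P).Normal ∧ C ≤ pstab φ (fixp φ R) ∧
      ∀ B : Subgroup H, B ≤ R → Cfsg.IsElementaryAbelian p B → Best φ B → B ≤ C := by
  set ψ := φ.comp P.subtype with hψ
  have hRT : IsSyl p (R.subgroupOf P) ⊤ := ⟨le_top, hR.isPGroup.comap_of_injective P.subtype
    Subtype.coe_injective, by rw [relIndex_top_right]; exact hR.not_dvd⟩
  obtain ⟨S, hS⟩ := exists_sylow_eq hRT
  set VP : Subgroup V := closure {v | ∃ x : P, ∃ w ∈ fixp φ R, ψ x w = v}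
  have hinv : Inv ψ VP := by
    intro h u hu
    induction hu using closure_induction with
    | mem v hv =>
      obtain ⟨x, w, hw, rfl⟩ := hv
      exact subset_closure ⟨h * x, w, hw, by rw [map_mul]; rfl⟩
    | one => simp
    | mul v w _ _ h1 h2 => rw [map_mul]; exact mul_mem h1 h2
    | inv v _ h1 => rw [map_inv]; exact inv_mem h1
  have hsub : fixp φ R ≤ VP := fun w hw => subset_closure ⟨1, w, hw, by simp⟩
  set f := res ψ VP hinv with hf
  set O := Cfsg.pCore p f.range
  haveI : O.Normal := LocalEven.core_normal p _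
  have hsur := f.rangeRestrict_surjective
  set D := O.comap f.rangeRestrict
  have hO : O ≤ (S : Subgroup P).map f.rangeRestrict := by
    have h1 := (S.mapSurjective hsur).3
      ((Sylow.mapSurjective hsur S).2.to_sup_of_normal_right (LocalEven.core_isPGroup p _))
      le_sup_left
    exact le_sup_right.trans h1.le
  have hker : ∀ {k : P}, k ∈ f.ker ↔ f.rangeRestrict k = 1 := fun {k} => by
    rw [MonoidHom.mem_ker, Subtype.ext_iff]; rfl
  have hdec : ∀ d ∈ D, ∃ k ∈ f.ker, ∃ r ∈ (S : Subgroup P) ⊓ D, d = k * r := by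
    intro d hd
    obtain ⟨r, hr, he⟩ := hO hd
    refine ⟨d * r⁻¹, hker.2 (by rw [map_mul, map_inv, he, mul_inv_cancel]), r,
      ⟨hr, show f.rangeRestrict r ∈ O by rw [he]; exact hd⟩, by group⟩
  have hfix : (S : Subgroup P) ⊓ D ≤ f.ker := by
    intro r hr
    rw [hf, mem_ker_res]
    intro u hu
    induction hu using closure_induction with
    | mem v hv =>
      obtain ⟨x, w, hw, rfl⟩ := hv
      obtain ⟨d, hd, hdx⟩ := frattini_inf S D x
      obtain ⟨k, hk, s, hs, rfl⟩ := hdec d hd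
      set n := s⁻¹ * ((k * s) * x) with hn
      have hnN : n ∈ normalizer (((S : Subgroup P) ⊓ D : Subgroup P) : Set P) :=
        mul_mem (inv_mem (le_normalizer hs)) hdx
      set c := n⁻¹ * (s⁻¹ * k⁻¹ * s) * n with hc
      have hck : c ∈ f.ker := by
        have h1 : s⁻¹ * k⁻¹ * s ∈ f.ker := by
          simpa using f.normal_ker.conj_mem _ (inv_mem hk) s⁻¹
        simpa [hc] using f.normal_ker.conj_mem _ h1 n⁻¹
      have hx : x = n * c := by rw [hc, hn]; group
      have h1 : ψ c w = w := mem_ker_res.1 hck w (hsub hw)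
      have h2 : ψ x w = ψ n w := by rw [hx, map_mul, MulAut.mul_apply, h1]
      have h3 : n⁻¹ * r * n ∈ (S : Subgroup P) ⊓ D := by
        have := (mem_normalizer_iff.1 (inv_mem hnN) r).1 hr
        simpa using this
      have h4 : ψ (n⁻¹ * r * n) w = w := hw _ (hS.le h3.1)
      rw [h2]
      calc ψ r (ψ n w) = ψ n (ψ (n⁻¹ * r * n) w) := by
            simp [map_mul, MulAut.mul_apply, MulAut.apply_inv_self]
        _ = ψ n w := by rw [h4]
    | one => simp
    | mul v w _ _ h1 h2 => rw [map_mul, h1, h2]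
    | inv v _ h1 => rw [map_inv, h1]
  have hc0 : O = ⊥ := by
    refine eq_bot_iff.2 fun o ho => ?_
    obtain ⟨d, rfl⟩ := hsur o
    obtain ⟨k, hk, r, hr, rfl⟩ := hdec d ho
    rw [mem_bot, map_mul, hker.1 hk, hker.1 (hfix hr), one_mul]
  refine ⟨f.ker.map P.subtype, map_subtype_le _, ?_, ?_, ?_⟩
  · rw [subgroupOf, comap_map_eq_self_of_injective Subtype.coe_injective]
    exact f.normal_ker
  · rintro _ ⟨c, hc, rfl⟩ w hw
    exact mem_ker_res.1 hc w (hsub hw)
  · intro B hB hBea hBb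
    have hBP := hB.trans hR.le
    have h1 : B.subgroupOf P ≤ f.ker := by
      refine le_ker_of_claim IH f (fun v => Subtype.ext (hexp v)) hP hsec hc0
        (lt_of_le_of_lt (Nat.add_le_add_left (Nat.card_le_card_of_injective _
          (Subgroup.subtype_injective VP)) _) hN) _ (isEA_subgroupOf hBea) ?_
      exact (best_subgroupOf φ hBP hBb).card_le VP hinv
    intro b hb
    exact ⟨⟨b, hBP hb⟩, h1 hb, rfl⟩

end CfsgLib.NoFF
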